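import Mathlib

set_option autoImplicit false
universe u

namespace Groth.Agent.Lib.Helper55.FinCovDbl

open Module

/-- Basis of a rank-two algebra from a bijection. -/
noncomputable def basisOfBij {R S : Type*} [CommRing R] [CommRing S] [Algebra R S] (ε : S)
    (hbij : Function.Bijective fun p : R × R => algebraMap R S p.1 + algebraMap R S p.2 * ε) :
    Basis (Fin 2) R S :=
  (Basis.finTwoProd R).map (LinearEquiv.ofBijective
    (LinearMap.coprod (LinearMap.toSpanSingleton R S 1) (LinearMap.toSpanSingleton R S ε))
    (by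
      convert hbij using 2 with p
      simp [LinearMap.coprod_apply, LinearMap.toSpanSingleton_apply, Algebra.smul_def]))

theorem basisOfBij_zero {R S : Type*} [CommRing R] [CommRing S] [Algebra R S] (ε : S)
    (hbij : Function.Bijective fun p : R × R => algebraMap R S p.1 + algebraMap R S p.2 * ε) :
    basisOfBij ε hbij 0 = 1 := by
  simp [basisOfBij, LinearMap.coprod_apply, LinearMap.toSpanSingleton_apply]

theorem basisOfBij_one {R S : Type*} [CommRing R] [CommRing S] [Algebra R S] (ε : S)
    (hbij : Function.Bijective fun p : R × R => algebraMap R S p.1 + algebraMap R S p.2 * ε) :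
    basisOfBij ε hbij 1 = ε := by
  simp [basisOfBij, LinearMap.coprod_apply, LinearMap.toSpanSingleton_apply]

theorem trace_one_of_basis {R S : Type*} [CommRing R] [CommRing S] [Algebra R S]
    (b : Basis (Fin 2) R S) : Algebra.trace R S 1 = 2 := by
  have h := Algebra.trace_algebraMap_of_basis b (1 : R)
  rw [map_one] at h
  rw [h]
  simp

theorem trace_eps_of_basis {R S : Type*} [CommRing R] [CommRing S] [Algebra R S]
    (b : Basis (Fin 2) R S) (ε : S) (c : R) (h0 : b 0 = 1) (h1 : b 1 = ε)
    (hε : ε * ε = algebraMap R S c) : Algebra.trace R S ε = 0 := by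
  rw [Algebra.trace_eq_matrix_trace b, Matrix.trace_fin_two]
  rw [Algebra.leftMulMatrix_eq_repr_mul, Algebra.leftMulMatrix_eq_repr_mul]
  rw [h0, h1, mul_one, hε]
  have e1 : b.repr ε 0 = 0 := by
    rw [← h1, b.repr_self]; simp
  have e2 : b.repr (algebraMap R S c) 1 = 0 := by
    rw [Algebra.algebraMap_eq_smul_one, ← h0, map_smul, b.repr_self]; simp
  rw [e1, e2, add_zero]

end Groth.Agent.Lib.Helper55.FinCovDbl
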