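import Groth.Statements.S19700

set_option autoImplicit false
universe u
open CategoryTheory AlgebraicGeometry Opposite

namespace Groth.Agent.Lib.Helper55.FinCovDbl

/-- a trivialisation on sections -/
noncomputable def trivMap {X : Scheme.{u}} (L : X.Modules) (W : X.Opens)
    (φh : L.restrict W.ι ⟶ Coh.structureModule (W : Scheme)) (V' : (W : Scheme).Opens) :
    Γ(L, W.ι ''ᵁ V') → Γ((W : Scheme), V') := fun m => (φh.app V') m

theorem triv_smul {X : Scheme.{u}} (L : X.Modules) (W : X.Opens)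
    (φh : L.restrict W.ι ⟶ Coh.structureModule (W : Scheme)) (V' : (W : Scheme).Opens)
    (r' : Γ(X, W.ι ''ᵁ V')) (m : Γ(L, W.ι ''ᵁ V')) :
    trivMap L W φh V' (r' • m) = (W.ι.appIso V').hom r' * trivMap L W φh V' m := by
  let m' : Γ(L.restrict W.ι, V') := m
  have h1 := Scheme.Modules.Hom.app_smul φh ((W.ι.appIso V').hom r') m'
  have h2 : ((W.ι.appIso V').hom r' • m') = r' • m := by
    show (W.ι.appIso V').inv ((W.ι.appIso V').hom r') • m = r' • m
    simp
    rfl
  rw [h2] at h1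
  exact h1

theorem appIso_inv_hom {X : Scheme.{u}} (W : X.Opens) (V' : (W : Scheme).Opens)
    (r : Γ(X, W.ι ''ᵁ V')) : (W.ι.appIso V').inv ((W.ι.appIso V').hom r) = r := by
  have := congrArg (fun f => f.hom r) (W.ι.appIso V').hom_inv_id
  exact this

theorem appIso_hom_inv {X : Scheme.{u}} (W : X.Opens) (V' : (W : Scheme).Opens)
    (r : Γ((W : Scheme), V')) : (W.ι.appIso V').hom ((W.ι.appIso V').inv r) = r := by
  have := congrArg (fun f => f.hom r) (W.ι.appIso V').inv_hom_id
  exact this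

set_option maxHeartbeats 1000000 in
theorem exists_local_gen {X : Scheme.{u}} (L : X.Modules) (hL : PicF.IsInvertible L)
    (U : X.Opens) (x : X) (hx : x ∈ U) :
    ∃ V : X.Opens, IsAffineOpen V ∧ x ∈ V ∧ V ≤ U ∧ ∃ e : Γ(L, V),
      Function.Bijective (fun r : Γ(X, V) => r • e) := by
  obtain ⟨W, hxW, ⟨φ⟩⟩ := hL x
  let x' : (W : Scheme) := ⟨x, hxW⟩
  have hx' : x' ∈ W.ι ⁻¹ᵁ U := hx
  obtain ⟨V', hV'aff, hx'V', hV'le⟩ :=
    TopologicalSpace.Opens.isBasis_iff_nbhd.1 (Scheme.isBasis_affineOpens (W : Scheme)) hx'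
  have hV'aff' : IsAffineOpen V' := hV'aff
  refine ⟨W.ι ''ᵁ V', hV'aff'.image_of_isOpenImmersion W.ι, ⟨x', hx'V', rfl⟩, ?_, ?_⟩
  · refine le_trans (W.ι.image_mono hV'le) ?_
    rw [Scheme.Hom.image_preimage_eq_opensRange_inf]
    exact inf_le_right
  · have hφbij : Function.Bijective (trivMap L W φ.hom V') :=
      (ConcreteCategory.isIso_iff_bijective (φ.hom.app V')).1 inferInstance
    obtain ⟨e, he⟩ := hφbij.2 (1 : Γ((W : Scheme), V'))
    refine ⟨e, ?_, ?_⟩
    · intro r r' hrr'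
      have h1 := congrArg (trivMap L W φ.hom V') hrr'
      simp only at h1
      rw [triv_smul, triv_smul] at h1
      rw [he, mul_one, mul_one] at h1
      have h3 := congrArg (W.ι.appIso V').inv h1
      rw [appIso_inv_hom, appIso_inv_hom] at h3
      exact h3
    · intro l
      refine ⟨(W.ι.appIso V').inv (trivMap L W φ.hom V' l), ?_⟩
      apply hφbij.1
      show trivMap L W φ.hom V' ((W.ι.appIso V').inv (trivMap L W φ.hom V' l) • e) = _
      rw [triv_smul]
      rw [he, mul_one]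
      exact appIso_hom_inv _ _ _

end Groth.Agent.Lib.Helper55.FinCovDbl
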