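import Groth.Statements.S19700
import Groth.Agent.Lib.Helper55.FinCov.Dbl1
import Groth.Agent.Lib.Helper55.FinCov.Dbl2

set_option autoImplicit false
universe u
open CategoryTheory AlgebraicGeometry Opposite

namespace Groth.Agent.Lib.Helper55.FinCovDbl

theorem j_smul {X : Scheme.{u}} (L : X.Modules) (A : RelSpec.QCAlg X) (j : L ⟶ A.toModule)
    (V : X.Opens) (r : Γ(X, V)) (e : Γ(L, V)) :
    FinCov.toSec A ((j.val.app (op V)).hom (r • e)) =
      (A.str.app (op V)).hom r * FinCov.toSec A ((j.val.app (op V)).hom e) := by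
  have h1 := (j.val.app (op V)).hom.map_smul r e
  exact h1

set_option maxHeartbeats 1000000 in
theorem local_trace {X : Scheme.{u}} (L : X.Modules)
    (m : CohB1.tensorMod L L ⟶ Coh.structureModule X) (A : RelSpec.QCAlg X) (j : L ⟶ A.toModule)
    (h : FinCov.IsDblAlg L m A j)
    (τ : A.toModule ⟶ Coh.structureModule X) (hτ : FinCov.IsTrace A τ)
    (V : X.Opens) (hV : IsAffineOpen V) (e : Γ(L, V))
    (he : Function.Bijective (fun r : Γ(X, V) => r • e)) :
    (τ.val.app (op V)).hom (1 : A.presheaf.obj (op V)) = (2 : Γ(X, V)) ∧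
    ∀ l : L.val.obj (op V), (τ.val.app (op V)).hom ((j.val.app (op V)).hom l) = (0 : Γ(X, V)) := by
  let _ : Algebra Γ(X, V) (A.presheaf.obj (op V)) := (A.str.app (op V)).hom.toAlgebra
  let ε : A.presheaf.obj (op V) := FinCov.toSec A ((j.val.app (op V)).hom e)
  have hbij : Function.Bijective fun p : Γ(X, V) × Γ(X, V) =>
      algebraMap Γ(X, V) (A.presheaf.obj (op V)) p.1 +
        algebraMap Γ(X, V) (A.presheaf.obj (op V)) p.2 * ε := by
    have h1 := (h.1 V).comp (Function.bijective_id.prodMap he)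
    have hfun : (fun p : Γ(X, V) × Γ(X, V) =>
        algebraMap Γ(X, V) (A.presheaf.obj (op V)) p.1 +
          algebraMap Γ(X, V) (A.presheaf.obj (op V)) p.2 * ε) =
        ((fun q : Γ(X, V) × L.val.obj (op V) => (A.str.app (op V)).hom q.1 +
          FinCov.toSec A ((j.val.app (op V)).hom q.2)) ∘ Prod.map id (fun r : Γ(X, V) => r • e)) := by
      funext p
      show _ = (A.str.app (op V)).hom p.1 + FinCov.toSec A ((j.val.app (op V)).hom (p.2 • e))
      rw [j_smul]
      rfl
    rw [hfun]
    exact h1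
  have hε : ε * ε = algebraMap Γ(X, V) (A.presheaf.obj (op V))
      ((m.val.app (op V)).hom (SecTwist.tmul L L V e e)) := h.2 V e e
  let b := basisOfBij ε hbij
  have hfree : Module.Free Γ(X, V) (A.presheaf.obj (op V)) := Module.Free.of_basis b
  have hfin : Module.Finite Γ(X, V) (A.presheaf.obj (op V)) := Module.Finite.of_basis b
  have key := hτ V hV hfree hfin
  refine ⟨?_, ?_⟩
  · have t1 : Algebra.trace Γ(X, V) (A.presheaf.obj (op V)) 1 = (2 : Γ(X, V)) :=
      trace_one_of_basis b
    exact (key 1).trans t1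
  · intro l
    obtain ⟨r, hr⟩ := he.2 l
    have hjl : FinCov.toSec A ((j.val.app (op V)).hom l) = r • ε := by
      rw [← hr]
      exact j_smul L A j V r e
    have h3 := key (FinCov.toSec A ((j.val.app (op V)).hom l))
    refine h3.trans ?_
    rw [hjl, map_smul, trace_eps_of_basis b ε _ (basisOfBij_zero ε hbij) (basisOfBij_one ε hbij) hε,
      smul_zero]

end Groth.Agent.Lib.Helper55.FinCovDbl
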