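import Groth.Statements.S19700
import Groth.Agent.Lib.Helper55.FinCov.Dbl3

set_option autoImplicit false
universe u
open CategoryTheory AlgebraicGeometry Opposite

namespace Groth.Agent.Lib.Helper55.FinCovDbl

theorem tau_res {X : Scheme.{u}} (A : RelSpec.QCAlg X)
    (τ : A.toModule ⟶ Coh.structureModule X) {U V : X.Opens} (i : V ⟶ U)
    (a : A.presheaf.obj (op U)) :
    X.presheaf.map i.op ((τ.val.app (op U)).hom a) =
      (τ.val.app (op V)).hom ((A.presheaf.map i.op).hom a) :=
  (PresheafOfModules.naturality_apply τ.val i.op a).symm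

theorem j_res {X : Scheme.{u}} (L : X.Modules) (A : RelSpec.QCAlg X) (j : L ⟶ A.toModule)
    {U V : X.Opens} (i : V ⟶ U) (l : L.val.obj (op U)) :
    (A.presheaf.map i.op).hom (FinCov.toSec A ((j.val.app (op U)).hom l)) =
      FinCov.toSec A ((j.val.app (op V)).hom (L.val.map i.op l)) :=
  (PresheafOfModules.naturality_apply j.val i.op l).symm

set_option maxHeartbeats 1000000 in
theorem global_trace {X : Scheme.{u}} (L : X.Modules) (hL : PicF.IsInvertible L)
    (m : CohB1.tensorMod L L ⟶ Coh.structureModule X) (A : RelSpec.QCAlg X) (j : L ⟶ A.toModule)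
    (h : FinCov.IsDblAlg L m A j)
    (τ : A.toModule ⟶ Coh.structureModule X) (hτ : FinCov.IsTrace A τ)
    (U : X.Opens) :
    (τ.val.app (op U)).hom (1 : A.presheaf.obj (op U)) = (2 : Γ(X, U)) ∧
    ∀ l : L.val.obj (op U), (τ.val.app (op U)).hom ((j.val.app (op U)).hom l) = (0 : Γ(X, U)) := by
  choose V hVaff hxV hVU e he using fun x : U => exists_local_gen L hL U x.1 x.2
  have hcover : U ≤ iSup V := by
    intro x hx
    exact TopologicalSpace.Opens.mem_iSup.2 ⟨⟨x, hx⟩, hxV ⟨x, hx⟩⟩
  have hloc := fun x : U => local_trace L m A j h τ hτ (V x) (hVaff x) (e x) (he x)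
  refine ⟨?_, ?_⟩
  · refine X.sheaf.eq_of_locally_eq' V U (fun x => homOfLE (hVU x)) hcover _ _ ?_
    intro x
    have h1 := tau_res A τ (homOfLE (hVU x)) (1 : A.presheaf.obj (op U))
    rw [map_one] at h1
    refine h1.trans ?_
    refine (hloc x).1.trans ?_
    exact (map_ofNat (X.presheaf.map (homOfLE (hVU x)).op).hom 2).symm
  · intro l
    refine X.sheaf.eq_of_locally_eq' V U (fun x => homOfLE (hVU x)) hcover _ _ ?_
    intro x
    have h1 := tau_res A τ (homOfLE (hVU x)) (FinCov.toSec A ((j.val.app (op U)).hom l))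
    rw [j_res] at h1
    refine h1.trans ?_
    refine ((hloc x).2 _).trans ?_
    exact (map_zero (X.presheaf.map (homOfLE (hVU x)).op).hom).symm

end Groth.Agent.Lib.Helper55.FinCovDbl
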