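import Groth.Statements.S19699

set_option autoImplicit false
universe u
open CategoryTheory AlgebraicGeometry Opposite TensorProduct MonoidalCategory

namespace Groth.Agent.Lib.Helper55.FinCovDbl

variable {X : Scheme.{u}}

set_option maxHeartbeats 1000000 in
noncomputable def muPre (K : X.Modules)
    (β : ∀ U : X.Opens, Γ(K, U) →ₗ[Γ(X, U)] Γ(K, U) →ₗ[Γ(X, U)] Γ(X, U))
    (hβ : ∀ {U V : X.Opens} (i : V ⟶ U) (l l' : Γ(K, U)),
      X.presheaf.map i.op (β U l l') = β V (K.presheaf.map i.op l) (K.presheaf.map i.op l')) :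
    (CohB1.tensorPre K K : X.PresheafOfModules) ⟶ (Coh.structureModule X).val where
  app U := @ModuleCat.ofHom Γ(X, U.unop) _ (Γ(K, U.unop) ⊗[Γ(X, U.unop)] Γ(K, U.unop)) Γ(X, U.unop) _ _ _ _ (TensorProduct.lift (β U.unop))
  naturality {U V} f := by
    refine ModuleCat.MonoidalCategory.tensor_ext (fun m₁ m₂ => ?_)
    exact (hβ f.unop m₁ m₂).symm

theorem muPre_tmul (K : X.Modules)
    (β : ∀ U : X.Opens, Γ(K, U) →ₗ[Γ(X, U)] Γ(K, U) →ₗ[Γ(X, U)] Γ(X, U))
    (hβ : ∀ {U V : X.Opens} (i : V ⟶ U) (l l' : Γ(K, U)),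
      X.presheaf.map i.op (β U l l') = β V (K.presheaf.map i.op l) (K.presheaf.map i.op l'))
    (U : X.Opens) (l l' : K.val.obj (op U)) :
    ((muPre K β hβ).app (op U)).hom ((l ⊗ₜ l' : ↥((CohB1.tensorPre K K).obj (op U)))) = β U l l' :=
  rfl

/-- The pairing `K ⊗ K ⟶ O` attached to a compatible family of bilinear maps on sections. -/
noncomputable def pairing (K : X.Modules)
    (β : ∀ U : X.Opens, Γ(K, U) →ₗ[Γ(X, U)] Γ(K, U) →ₗ[Γ(X, U)] Γ(X, U))
    (hβ : ∀ {U V : X.Opens} (i : V ⟶ U) (l l' : Γ(K, U)),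
      X.presheaf.map i.op (β U l l') = β V (K.presheaf.map i.op l) (K.presheaf.map i.op l')) :
    CohB1.tensorMod K K ⟶ Coh.structureModule X :=
  (CohB1.sheafifyMod X).map (muPre K β hβ) ≫
    (PresheafOfModules.sheafificationAdjunction.{u, u, u, u}
      (J := Opens.grothendieckTopology X) (𝟙 X.ringCatSheaf.obj)).counit.app (Coh.structureModule X)

theorem pairing_tmul (K : X.Modules)
    (β : ∀ U : X.Opens, Γ(K, U) →ₗ[Γ(X, U)] Γ(K, U) →ₗ[Γ(X, U)] Γ(X, U))
    (hβ : ∀ {U V : X.Opens} (i : V ⟶ U) (l l' : Γ(K, U)),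
      X.presheaf.map i.op (β U l l') = β V (K.presheaf.map i.op l) (K.presheaf.map i.op l'))
    (U : X.Opens) (l l' : K.val.obj (op U)) :
    ((pairing K β hβ).val.app (op U)).hom (SecTwist.tmul K K U l l') = β U l l' := by
  let adj := PresheafOfModules.sheafificationAdjunction.{u, u, u, u}
    (J := Opens.grothendieckTopology X) (𝟙 X.ringCatSheaf.obj)
  let P : X.PresheafOfModules := CohB1.tensorPre K K
  let F := Coh.structureModule X
  let x : ↥((CohB1.tensorPre K K).obj (op U)) := l ⊗ₜ l'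
  have natU : ((adj.unit.app F.val).app (op U)).hom (((muPre K β hβ).app (op U)).hom x) =
      ((((CohB1.sheafifyMod X).map (muPre K β hβ)).val.app (op U)).hom
        (((adj.unit.app P).app (op U)).hom x)) :=
    congrArg (fun φ => (PresheafOfModules.Hom.app φ (op U)).hom x) (adj.unit.naturality (muPre K β hβ))
  rw [muPre_tmul] at natU
  have triU : (((adj.counit.app F).val.app (op U)).hom
      (((adj.unit.app F.val).app (op U)).hom (β U l l'))) = β U l l' :=
    congrArg (fun φ => (PresheafOfModules.Hom.app φ (op U)).hom (β U l l'))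
      (adj.right_triangle_components F)
  change ((((CohB1.sheafifyMod X).map (muPre K β hβ) ≫ adj.counit.app F).val.app (op U)).hom
      (((adj.unit.app P).app (op U)).hom x)) = β U l l'
  rw [← triU, natU]
  rfl

end Groth.Agent.Lib.Helper55.FinCovDbl
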