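import Mathlib

set_option autoImplicit false
universe u

namespace Groth.Agent.Lib.Helper55.FinCovDbl

open Module

theorem matrix_two_sq {R : Type*} [CommRing R] (M : Matrix (Fin 2) (Fin 2) R) :
    M * M = M.trace • M - M.det • (1 : Matrix (Fin 2) (Fin 2) R) := by
  ext i j
  fin_cases i <;> fin_cases j <;>
    simp [Matrix.mul_apply, Fin.sum_univ_two, Matrix.trace_fin_two, Matrix.det_fin_two] <;> ring

theorem sq_of_trace_zero {R S : Type*} [CommRing R] [CommRing S] [Algebra R S]
    (b : Basis (Fin 2) R S) (x : S) (hx : Algebra.trace R S x = 0) :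
    ∃ c : R, x * x = algebraMap R S c := by
  refine ⟨-(Algebra.leftMulMatrix b x).det, ?_⟩
  apply Algebra.leftMulMatrix_injective b
  rw [map_mul, matrix_two_sq, ← Algebra.trace_eq_matrix_trace b, hx, zero_smul, zero_sub,
    AlgHom.commutes, Algebra.algebraMap_eq_smul_one, neg_smul]

theorem mul_of_trace_zero {R S : Type*} [CommRing R] [CommRing S] [Algebra R S]
    (b : Basis (Fin 2) R S) (u : R) (hu : u * 2 = 1) (x y : S)
    (hx : Algebra.trace R S x = 0) (hy : Algebra.trace R S y = 0) :
    x * y = algebraMap R S (u * Algebra.trace R S (x * y)) := by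
  obtain ⟨cx, hcx⟩ := sq_of_trace_zero b x hx
  obtain ⟨cy, hcy⟩ := sq_of_trace_zero b y hy
  obtain ⟨cxy, hcxy⟩ := sq_of_trace_zero b (x + y) (by rw [map_add, hx, hy, add_zero])
  have h2 : (2 : S) * (x * y) = algebraMap R S (cxy - cx - cy) := by
    rw [map_sub, map_sub, ← hcxy, ← hcx, ← hcy]; ring
  have hu' : algebraMap R S u * 2 = 1 := by
    have := congrArg (algebraMap R S) hu
    rw [map_mul, map_ofNat, map_one] at this
    exact this
  have h3 : x * y = algebraMap R S (u * (cxy - cx - cy)) := by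
    rw [map_mul, ← h2, ← mul_assoc, hu', one_mul]
  have h4 : Algebra.trace R S (x * y) = 2 * (u * (cxy - cx - cy)) := by
    rw [h3, Algebra.trace_algebraMap_of_basis b]
    simp
  rw [h4, ← mul_assoc, hu, one_mul]
  exact h3

end Groth.Agent.Lib.Helper55.FinCovDbl
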