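import Groth.Statements.S19699
import Groth.Agent.Lib.Helper55.FinCov.Dbl4
import Groth.Agent.Lib.Cohomology.Helper1_KernelSections

set_option autoImplicit false
universe u
open CategoryTheory CategoryTheory.Limits AlgebraicGeometry Opposite

namespace Groth.Agent.Lib.Helper55.FinCovDbl

variable {X : Scheme.{u}}

/-- the trace on sections, as a function to `Γ(X, U)` -/
noncomputable def tauS (A : RelSpec.QCAlg X) (τ : A.toModule ⟶ Coh.structureModule X) (U : X.Opens)
    (a : A.presheaf.obj (op U)) : Γ(X, U) := (τ.val.app (op U)).hom a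

theorem tauS_add (A : RelSpec.QCAlg X) (τ : A.toModule ⟶ Coh.structureModule X) (U : X.Opens)
    (a b : A.presheaf.obj (op U)) : tauS A τ U (a + b) = tauS A τ U a + tauS A τ U b :=
  (τ.val.app (op U)).hom.map_add a b

theorem tauS_str_mul (A : RelSpec.QCAlg X) (τ : A.toModule ⟶ Coh.structureModule X) (U : X.Opens)
    (c : Γ(X, U)) (a : A.presheaf.obj (op U)) :
    tauS A τ U ((A.str.app (op U)).hom c * a) = c * tauS A τ U a := by
  let c' : X.ringCatSheaf.obj.obj (op U) := c
  let a' : A.toModule.val.obj (op U) := a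
  exact (τ.val.app (op U)).hom.map_smul c' a'

theorem tauS_res (A : RelSpec.QCAlg X) (τ : A.toModule ⟶ Coh.structureModule X) {U V : X.Opens}
    (i : V ⟶ U) (a : A.presheaf.obj (op U)) :
    X.presheaf.map i.op (tauS A τ U a) = tauS A τ V ((A.presheaf.map i.op).hom a) :=
  tau_res A τ i a

/-- the inclusion of the kernel on sections -/
noncomputable def iotaS (A : RelSpec.QCAlg X) (τ : A.toModule ⟶ Coh.structureModule X) (U : X.Opens)
    (l : Γ(kernel τ, U)) : A.presheaf.obj (op U) := ((kernel.ι τ).val.app (op U)).hom l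

theorem tauS_iotaS (A : RelSpec.QCAlg X) (τ : A.toModule ⟶ Coh.structureModule X) (U : X.Opens)
    (l : Γ(kernel τ, U)) : tauS A τ U (iotaS A τ U l) = 0 := by
  have := congrArg (fun φ : kernel τ ⟶ Coh.structureModule X => (φ.val.app (op U)).hom l)
    (kernel.condition τ)
  exact this

theorem iotaS_add (A : RelSpec.QCAlg X) (τ : A.toModule ⟶ Coh.structureModule X) (U : X.Opens)
    (l l' : Γ(kernel τ, U)) : iotaS A τ U (l + l') = iotaS A τ U l + iotaS A τ U l' :=
  ((kernel.ι τ).val.app (op U)).hom.map_add l l'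

theorem iotaS_smul (A : RelSpec.QCAlg X) (τ : A.toModule ⟶ Coh.structureModule X) (U : X.Opens)
    (c : Γ(X, U)) (l : Γ(kernel τ, U)) :
    iotaS A τ U (c • l) = (A.str.app (op U)).hom c * iotaS A τ U l :=
  j_smul (kernel τ) A (kernel.ι τ) U c l

theorem iotaS_res (A : RelSpec.QCAlg X) (τ : A.toModule ⟶ Coh.structureModule X) {U V : X.Opens}
    (i : V ⟶ U) (l : Γ(kernel τ, U)) :
    (A.presheaf.map i.op).hom (iotaS A τ U l) = iotaS A τ V ((kernel τ).presheaf.map i.op l) :=
  j_res (kernel τ) A (kernel.ι τ) i l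

theorem iotaS_injective (A : RelSpec.QCAlg X) (τ : A.toModule ⟶ Coh.structureModule X) (U : X.Opens) :
    Function.Injective (iotaS A τ U) := by
  have h1 : Mono ((Groth.Agent.Lib.Cohomology.sectionsFunctor X U).map (kernel.ι τ)) := inferInstance
  exact (AddCommGrpCat.mono_iff_injective _).1 h1

theorem iotaS_surj (A : RelSpec.QCAlg X) (τ : A.toModule ⟶ Coh.structureModule X) (U : X.Opens)
    (a : A.presheaf.obj (op U)) (ha : tauS A τ U a = 0) : ∃ l, iotaS A τ U l = a :=
  Groth.Agent.Lib.Cohomology.exists_kernel_section τ U a ha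

end Groth.Agent.Lib.Helper55.FinCovDbl
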