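import Groth.Statements.S19699
import Groth.Agent.Lib.Helper55.FinCov.Dbl7
import Groth.Agent.Lib.Helper55.FinCov.Dbl5
import Groth.Agent.Lib.Helper55.FinCov.Dbl6
import Groth.Agent.Lib.QCoh.Helper74_LocFreeBasis
import Groth.Agent.S19695

set_option autoImplicit false
universe u
open CategoryTheory CategoryTheory.Limits AlgebraicGeometry Opposite

namespace Groth.Agent.Lib.Helper55.FinCovDbl

variable {X : Scheme.{u}}

/-- restriction of a global function -/
noncomputable def uRes (u : Γ(X, ⊤)) (U : X.Opens) : Γ(X, U) :=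
  X.presheaf.map (homOfLE (le_top : U ≤ ⊤)).op u

theorem uRes_two (u : Γ(X, ⊤)) (hu : u * 2 = 1) (U : X.Opens) : uRes u U * 2 = 1 := by
  have := congrArg (X.presheaf.map (homOfLE (le_top : U ≤ ⊤)).op).hom hu
  rw [map_mul, map_ofNat, map_one] at this
  exact this

theorem uRes_res (u : Γ(X, ⊤)) {U V : X.Opens} (i : V ⟶ U) :
    X.presheaf.map i.op (uRes u U) = uRes u V := by
  unfold uRes
  rw [← ConcreteCategory.comp_apply, ← X.presheaf.map_comp]
  rfl

theorem str_res (A : RelSpec.QCAlg X) {U V : X.Opens} (i : V ⟶ U) (s : Γ(X, U)) :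
    (A.presheaf.map i.op).hom ((A.str.app (op U)).hom s) =
      (A.str.app (op V)).hom (X.presheaf.map i.op s) :=
  (congr($(A.str.naturality i.op) s)).symm

theorem local_mul (A : RelSpec.QCAlg X) (τ : A.toModule ⟶ Coh.structureModule X)
    (hτ : FinCov.IsTrace A τ) (u : Γ(X, ⊤)) (hu : u * 2 = 1) (V : X.Opens) (hV : IsAffineOpen V)
    (b : Module.Basis (Fin 2) Γ(X, V) Γ(A.toModule, V)) (a a' : A.presheaf.obj (op V))
    (ha : tauS A τ V a = 0) (ha' : tauS A τ V a' = 0) :
    a * a' = (A.str.app (op V)).hom (uRes u V * tauS A τ V (a * a')) := by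
  let _ : Algebra Γ(X, V) (A.presheaf.obj (op V)) := (A.str.app (op V)).hom.toAlgebra
  let b' : Module.Basis (Fin 2) Γ(X, V) (A.presheaf.obj (op V)) := b
  have hfree : Module.Free Γ(X, V) (A.presheaf.obj (op V)) := Module.Free.of_basis b'
  have hfin : Module.Finite Γ(X, V) (A.presheaf.obj (op V)) := Module.Finite.of_basis b'
  have key : ∀ c : A.presheaf.obj (op V),
      tauS A τ V c = Algebra.trace Γ(X, V) (A.presheaf.obj (op V)) c := hτ V hV hfree hfin
  have h1 : Algebra.trace Γ(X, V) (A.presheaf.obj (op V)) a = 0 := (key a).symm.trans ha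
  have h1' : Algebra.trace Γ(X, V) (A.presheaf.obj (op V)) a' = 0 := (key a').symm.trans ha'
  have h3 := mul_of_trace_zero b' (uRes u V) (uRes_two u hu V) a a' h1 h1'
  rw [key (a * a')]
  exact h3

set_option maxHeartbeats 1000000 in
theorem global_mul (A : RelSpec.QCAlg X) (hA : FlatMod.IsFinLocFreeOfRank 2 A.toModule)
    (τ : A.toModule ⟶ Coh.structureModule X)
    (hτ : FinCov.IsTrace A τ) (u : Γ(X, ⊤)) (hu : u * 2 = 1) (U : X.Opens)
    (a a' : A.presheaf.obj (op U))
    (ha : tauS A τ U a = 0) (ha' : tauS A τ U a' = 0) :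
    a * a' = (A.str.app (op U)).hom (uRes u U * tauS A τ U (a * a')) := by
  choose V hVaff hxV hVU b using fun x : U =>
    Groth.Agent.Lib.QCoh.exists_affine_basis_of_isFinLocFreeOfRank hA (V := U) (x := x.1) x.2
  have hcover : U ≤ iSup V := by
    intro x hx
    exact TopologicalSpace.Opens.mem_iSup.2 ⟨⟨x, hx⟩, hxV ⟨x, hx⟩⟩
  let F : TopCat.Sheaf CommRingCat X := ⟨A.presheaf, A.isSheaf⟩
  refine F.eq_of_locally_eq' V U (fun x => homOfLE (hVU x)) hcover _ _ ?_
  intro x
  show (A.presheaf.map (homOfLE (hVU x)).op).hom (a * a') =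
    (A.presheaf.map (homOfLE (hVU x)).op).hom
      ((A.str.app (op U)).hom (uRes u U * tauS A τ U (a * a')))
  have hL : (A.presheaf.map (homOfLE (hVU x)).op).hom (a * a') =
      (A.presheaf.map (homOfLE (hVU x)).op).hom a * (A.presheaf.map (homOfLE (hVU x)).op).hom a' :=
    map_mul _ _ _
  have hR : X.presheaf.map (homOfLE (hVU x)).op (uRes u U * tauS A τ U (a * a')) =
      uRes u (V x) * tauS A τ (V x) ((A.presheaf.map (homOfLE (hVU x)).op).hom a *
        (A.presheaf.map (homOfLE (hVU x)).op).hom a') := by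
    rw [map_mul, uRes_res, tauS_res, hL]
  rw [str_res, hR, hL]
  have e1 : tauS A τ (V x) ((A.presheaf.map (homOfLE (hVU x)).op).hom a) = 0 := by
    rw [← tauS_res, ha, map_zero]
  have e2 : tauS A τ (V x) ((A.presheaf.map (homOfLE (hVU x)).op).hom a') = 0 := by
    rw [← tauS_res, ha', map_zero]
  exact local_mul A τ hτ u hu (V x) (hVaff x) (b x).some _ _ e1 e2

theorem tauS_str (A : RelSpec.QCAlg X) (hA : FlatMod.IsFinLocFreeOfRank 2 A.toModule)
    (τ : A.toModule ⟶ Coh.structureModule X)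
    (hτ : FinCov.IsTrace A τ) (U : X.Opens) (s : Γ(X, U)) :
    tauS A τ U ((A.str.app (op U)).hom s) = 2 * s := by
  have h := Groth.Agent.S19695.result A 2 hA τ hτ
  let s' : Γ(Coh.structureModule X, U) := s
  have h1 := congrArg (fun φ : Coh.structureModule X ⟶ Coh.structureModule X => φ.app U s') h
  simp only at h1
  rw [Groth.Agent.Lib.QCoh.nsmul_app_apply] at h1
  refine Eq.trans ?_ (h1.trans ?_)
  · rfl
  · show (2 : ℕ) • s = 2 * s
    rw [nsmul_eq_mul]; norm_num

end Groth.Agent.Lib.Helper55.FinCovDbl
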