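import Groth.Statements.S19699
import Groth.Agent.Lib.Helper55.FinCov.Dbl8

set_option autoImplicit false
universe u
open CategoryTheory CategoryTheory.Limits AlgebraicGeometry Opposite

namespace Groth.Agent.Lib.Helper55.FinCovDbl

variable {X : Scheme.{u}}

/-- the bilinear form `(l, l') ↦ τ(l l') / 2` on sections of the kernel of the trace -/
noncomputable def betaFun (A : RelSpec.QCAlg X) (τ : A.toModule ⟶ Coh.structureModule X)
    (u : Γ(X, ⊤)) (U : X.Opens) (l l' : Γ(kernel τ, U)) : Γ(X, U) :=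
  uRes u U * tauS A τ U (iotaS A τ U l * iotaS A τ U l')

noncomputable def beta (A : RelSpec.QCAlg X) (τ : A.toModule ⟶ Coh.structureModule X)
    (u : Γ(X, ⊤)) (U : X.Opens) :
    Γ(kernel τ, U) →ₗ[Γ(X, U)] Γ(kernel τ, U) →ₗ[Γ(X, U)] Γ(X, U) :=
  LinearMap.mk₂ Γ(X, U) (betaFun A τ u U)
    (fun m₁ m₂ n => by
      unfold betaFun
      rw [iotaS_add, add_mul, tauS_add, mul_add])
    (fun c m n => by
      unfold betaFun
      rw [iotaS_smul, mul_assoc, tauS_str_mul, smul_eq_mul, mul_left_comm])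
    (fun m n₁ n₂ => by
      unfold betaFun
      rw [iotaS_add, mul_add, tauS_add, mul_add])
    (fun c m n => by
      unfold betaFun
      rw [iotaS_smul, mul_left_comm, tauS_str_mul, smul_eq_mul, mul_left_comm])

theorem beta_apply (A : RelSpec.QCAlg X) (τ : A.toModule ⟶ Coh.structureModule X)
    (u : Γ(X, ⊤)) (U : X.Opens) (l l' : Γ(kernel τ, U)) :
    beta A τ u U l l' = uRes u U * tauS A τ U (iotaS A τ U l * iotaS A τ U l') := rfl

theorem beta_res (A : RelSpec.QCAlg X) (τ : A.toModule ⟶ Coh.structureModule X)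
    (u : Γ(X, ⊤)) {U V : X.Opens} (i : V ⟶ U) (l l' : Γ(kernel τ, U)) :
    X.presheaf.map i.op (beta A τ u U l l') =
      beta A τ u V ((kernel τ).presheaf.map i.op l) ((kernel τ).presheaf.map i.op l') := by
  rw [beta_apply, beta_apply, map_mul, uRes_res, tauS_res, map_mul, iotaS_res, iotaS_res]

set_option maxHeartbeats 1000000 in
theorem bij (A : RelSpec.QCAlg X)
    (hA : FlatMod.IsFinLocFreeOfRank 2 A.toModule)
    (τ : A.toModule ⟶ Coh.structureModule X) (hτ : FinCov.IsTrace A τ)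
    (u : Γ(X, ⊤)) (hu : u * 2 = 1) (U : X.Opens) :
    Function.Bijective (fun p : Γ(X, U) × Γ(kernel τ, U) =>
      (A.str.app (op U)).hom p.1 + iotaS A τ U p.2) := by
  have hU2 := uRes_two u hu U
  constructor
  · rintro ⟨s, l⟩ ⟨s', l'⟩ hsl
    have hsl' : (A.str.app (op U)).hom s + iotaS A τ U l =
        (A.str.app (op U)).hom s' + iotaS A τ U l' := hsl
    have h3 := congrArg (tauS A τ U) hsl'
    rw [tauS_add, tauS_add, tauS_iotaS, tauS_iotaS, add_zero, add_zero, tauS_str A hA τ hτ,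
      tauS_str A hA τ hτ] at h3
    have hs : s = s' := by
      have h4 := congrArg (fun z => uRes u U * z) h3
      simp only [← mul_assoc, hU2, one_mul] at h4
      exact h4
    subst hs
    have hl : iotaS A τ U l = iotaS A τ U l' := add_left_cancel hsl'
    rw [iotaS_injective A τ U hl]
  · intro a
    let s : Γ(X, U) := uRes u U * tauS A τ U a
    have h5 : tauS A τ U (a + (A.str.app (op U)).hom (-s)) = 0 := by
      rw [tauS_add, tauS_str A hA τ hτ]
      show tauS A τ U a + 2 * -(uRes u U * tauS A τ U a) = 0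
      have : 2 * -(uRes u U * tauS A τ U a) = -((uRes u U * 2) * tauS A τ U a) := by ring
      rw [this, hU2, one_mul, add_neg_cancel]
    obtain ⟨l, hl⟩ := iotaS_surj A τ U _ h5
    refine ⟨(s, l), ?_⟩
    show (A.str.app (op U)).hom s + iotaS A τ U l = a
    rw [hl, map_neg]
    ring

set_option maxHeartbeats 1000000 in
theorem main (A : RelSpec.QCAlg X)
    (hA : FlatMod.IsFinLocFreeOfRank 2 A.toModule)
    (τ : A.toModule ⟶ Coh.structureModule X) (hτ : FinCov.IsTrace A τ) (h2 : IsUnit (2 : Γ(X, ⊤))) :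
    ∃ m : CohB1.tensorMod (kernel τ) (kernel τ) ⟶ Coh.structureModule X,
      FinCov.IsDblAlg (kernel τ) m A (kernel.ι τ) := by
  obtain ⟨u, hu⟩ : ∃ u : Γ(X, ⊤), u * 2 = 1 := by
    obtain ⟨v, hv⟩ := h2.exists_left_inv
    exact ⟨v, hv⟩
  refine ⟨pairing (kernel τ) (beta A τ u) (fun i l l' => beta_res A τ u i l l'), ?_, ?_⟩
  · intro U
    exact bij A hA τ hτ u hu U
  · intro U l l'
    rw [pairing_tmul]
    exact global_mul A hA τ hτ u hu U (iotaS A τ U l) (iotaS A τ U l') (tauS_iotaS A τ U l)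
      (tauS_iotaS A τ U l')

end Groth.Agent.Lib.Helper55.FinCovDbl
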